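import Mathlib

/-! Idempotent matrices: determinant of `1 + (c - 1) E`, and the spectral idempotents over a finite field. -/

set_option autoImplicit false
set_option linter.unusedSectionVars false

namespace CL.KGM

open Matrix Polynomial

variable {n : Type*} [Fintype n] [DecidableEq n]

theorem det_field {L : Type*} [Field L] (E : Matrix n n L) (hE : E * E = E) :
    ∃ d : ℕ, (∀ c : L, det (1 + (c - 1) • E) = c ^ d) ∧ E.trace = d := by
  have hf : IsIdempotentElem (toLin' E) := by
    show toLin' E * toLin' E = toLin' E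
    rw [Module.End.mul_eq_comp, ← toLin'_mul, hE]
  have hp := LinearMap.IsIdempotentElem.isProj_range _ hf
  refine ⟨Module.finrank L (LinearMap.range (toLin' E)), fun c => ?_, ?_⟩
  · rw [← LinearMap.det_toLin', map_add, map_smul, toLin'_one]
    set e := (LinearMap.range (toLin' E)).prodEquivOfIsCompl (LinearMap.ker (toLin' E)) hp.isCompl
    have h1 := hp.eq_conj_prodMap
    have h2 : LinearMap.id + (c - 1) • toLin' E =
        e.conj (LinearMap.prodMap (c • LinearMap.id) LinearMap.id) := by
      have : LinearMap.prodMap (c • LinearMap.id) LinearMap.id =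
          (LinearMap.id : _ →ₗ[L] (LinearMap.range (toLin' E)) × (LinearMap.ker (toLin' E))) +
            (c - 1) • LinearMap.prodMap LinearMap.id 0 := by
        apply LinearMap.ext
        rintro ⟨x, y⟩
        simp [sub_smul]
      rw [this, map_add, map_smul, ← h1, LinearEquiv.conj_id]
    rw [h2, LinearEquiv.conj_apply, LinearMap.comp_assoc, LinearMap.det_conj, LinearMap.det_prodMap]
    simp
  · rw [← trace_toLin'_eq, hp.trace]

variable {K : Type*} [Field K]

/-- The rank of an idempotent. -/
noncomputable def dd (E : Matrix n n K) : ℕ := (det (1 + ((X : K[X]) - 1) • E.map C)).natDegree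

theorem dd_spec (E : Matrix n n K) (hE : E * E = E) :
    det (1 + ((X : K[X]) - 1) • E.map C) = X ^ dd E ∧ E.trace = dd E := by
  obtain ⟨d, h1, h2⟩ := det_field (E.map (algebraMap K (RatFunc K))) (by rw [← Matrix.map_mul, hE])
  have h3 : det (1 + ((X : K[X]) - 1) • E.map C) = X ^ d := by
    apply IsFractionRing.injective K[X] (RatFunc K)
    rw [RingHom.map_det, map_pow, ← h1]
    congr 1
    ext i j
    simp [Matrix.one_apply, apply_ite]
  have h4 : dd E = d := by rw [dd, h3, natDegree_X_pow]
  rw [h4]
  refine ⟨h3, ?_⟩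
  apply (algebraMap K (RatFunc K)).injective
  rw [map_natCast, ← h2]
  simp [Matrix.trace]

theorem det_idem (E : Matrix n n K) (hE : E * E = E) (c : K) : det (1 + (c - 1) • E) = c ^ dd E := by
  have h := congrArg (evalRingHom c) (dd_spec E hE).1
  rw [RingHom.map_det, map_pow] at h
  simp only [coe_evalRingHom, eval_X] at h
  rw [← h]
  congr 1
  ext i j
  simp [Matrix.one_apply, apply_ite]

theorem trace_idem (E : Matrix n n K) (hE : E * E = E) : E.trace = dd E := (dd_spec E hE).2

theorem dd_map (E : Matrix n n K) (φ : K →+* K) : dd (E.map φ) = dd E := by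
  unfold dd
  rw [← natDegree_map_eq_of_injective φ.injective (det (1 + ((X : K[X]) - 1) • E.map C))]
  congr 1
  have := RingHom.map_det (mapRingHom φ) (1 + ((X : K[X]) - 1) • E.map C)
  rw [coe_mapRingHom] at this
  rw [this]
  congr 1
  ext i j : 2
  simp [Matrix.one_apply, apply_ite]

theorem det_sum {ι : Type*} (s : Finset ι) (E : ι → Matrix n n K) (c : ι → K)
    (h1 : ∀ i, E i * E i = E i) (h2 : ∀ i j, i ≠ j → E i * E j = 0) :
    det (1 + ∑ i ∈ s, (c i - 1) • E i) = ∏ i ∈ s, c i ^ dd (E i) := by
  classical
  induction s using Finset.induction_on with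
  | empty => simp
  | insert j s hj ih =>
    rw [Finset.prod_insert hj, Finset.sum_insert hj, ← ih, ← det_idem _ (h1 j), ← det_mul]
    congr 1
    have : E j * ∑ i ∈ s, (c i - 1) • E i = 0 := by
      rw [Finset.mul_sum]
      refine Finset.sum_eq_zero fun i hi => ?_
      rw [Matrix.mul_smul, h2 j i (fun e => hj (e ▸ hi)), smul_zero]
    rw [add_mul, mul_add, mul_add, one_mul, one_mul, mul_one, Matrix.smul_mul, this, smul_zero]
    abel

section pi

variable [Fintype K]

/-- The spectral idempotent. -/
def pi (a : K) (s : Matrix n n K) : Matrix n n K := 1 - (s - a • 1) ^ (Fintype.card K - 1)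

theorem pi_aeval (a : K) (s : Matrix n n K) :
    pi a s = aeval s (1 - (X - C a) ^ (Fintype.card K - 1)) := by
  simp [pi, Algebra.algebraMap_eq_smul_one]

theorem comm_pi {a : K} {s t : Matrix n n K} (h : Commute t s) : Commute t (pi a s) :=
  (Commute.one_right t).sub_right
    ((h.sub_right ((Commute.one_right t).smul_right a)).pow_right _)

theorem aeval_congr {s : Matrix n n K} (hs : s ^ Fintype.card K = s) {P R : K[X]}
    (h : ∀ x, P.eval x = R.eval x) : aeval s P = aeval s R := by
  classical
  have hd : (X ^ Fintype.card K - X : K[X]) ∣ P - R := by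
    have h1 : (X ^ Fintype.card K - X : K[X]) = ∏ a : K, (X - C a) := by
      have hm : (X ^ Fintype.card K - X : K[X]).Monic :=
        monic_X_pow_sub (by rw [degree_X]; exact_mod_cast Fintype.one_lt_card)
      have := prod_multiset_X_sub_C_of_monic_of_roots_card_eq hm (by
        rw [FiniteField.roots_X_pow_card_sub_X, FiniteField.X_pow_card_sub_X_natDegree_eq K
          Fintype.one_lt_card]; rfl)
      rw [← this, FiniteField.roots_X_pow_card_sub_X]
      rfl
    rw [h1]
    refine Finset.prod_dvd_of_coprime (fun a _ b _ hab => isCoprime_X_sub_C_of_isUnit_sub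
      (IsUnit.mk0 _ (sub_ne_zero.2 hab))) fun a _ => ?_
    rw [dvd_iff_isRoot, IsRoot, eval_sub, h, sub_self]
  obtain ⟨T, hT⟩ := hd
  rw [← sub_eq_zero, ← map_sub, hT, map_mul, map_sub, map_pow, aeval_X, hs, sub_self, zero_mul]

theorem eval_pi [DecidableEq K] (a x : K) :
    (1 - (X - C a) ^ (Fintype.card K - 1) : K[X]).eval x = if x = a then 1 else 0 := by
  have h : Fintype.card K - 1 ≠ 0 := by have := Fintype.one_lt_card (α := K); omega
  split_ifs with hx
  · simp [hx, h]
  · simp [FiniteField.pow_card_sub_one_eq_one _ (sub_ne_zero.2 hx)]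

variable {s : Matrix n n K} (hs : s ^ Fintype.card K = s)
include hs

theorem pi_idem (a : K) : pi a s * pi a s = pi a s := by
  classical
  rw [pi_aeval, ← map_mul]
  refine aeval_congr hs fun x => ?_
  rw [eval_mul, eval_pi]; split_ifs <;> simp

theorem pi_orth {a b : K} (h : a ≠ b) : pi a s * pi b s = 0 := by
  classical
  rw [pi_aeval, pi_aeval, ← map_mul, ← map_zero (aeval s : K[X] →ₐ[K] _)]
  refine aeval_congr hs fun x => ?_
  rw [eval_mul, eval_pi, eval_pi]
  split_ifs with h1 h2
  · exact absurd (h1.symm.trans h2) h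
  all_goals simp

theorem pi_sum : ∑ a, pi a s = 1 := by
  classical
  simp only [pi_aeval]
  rw [← map_sum, ← map_one (aeval s : K[X] →ₐ[K] _)]
  refine aeval_congr hs fun x => ?_
  rw [eval_finset_sum]
  simp only [eval_pi]
  simp

theorem mul_pi (a : K) : s * pi a s = a • pi a s := by
  classical
  have h := aeval_congr hs (P := X * (1 - (X - C a) ^ (Fintype.card K - 1)))
    (R := C a * (1 - (X - C a) ^ (Fintype.card K - 1))) fun x => by
      rw [eval_mul, eval_mul, eval_pi, eval_X, eval_C]; split_ifs with h <;> simp [h]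
  rw [map_mul, map_mul, aeval_X, aeval_C, ← pi_aeval, ← Algebra.smul_def] at h
  exact h

omit hs in
theorem pi_zero (hs : s ^ (Fintype.card K - 1) = 1) : pi 0 s = 0 := by
  simp [pi, hs]

omit hs in
theorem pi_map (φ : K →+* K) (a : K) : (pi a s).map φ = pi (φ a) (s.map φ) := by
  have : (s - a • 1).map φ = s.map φ - φ a • 1 := by
    ext i j; by_cases h : i = j <;> simp [Matrix.one_apply, h]
  have h := (φ.mapMatrix (m := n)).map_pow (s - a • 1) (Fintype.card K - 1)
  simp only [RingHom.mapMatrix_apply] at h
  rw [pi, pi, ← this, ← h]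
  ext i j; simp [Matrix.one_apply, apply_ite]

omit hs in
theorem pi_conj (a : K) (h k : Matrix n n K) (hk : h * k = 1) (hk' : k * h = 1) :
    pi a (h * s * k) = h * pi a s * k := by
  have e : h * s * k - a • 1 = h * (s - a • 1) * k := by
    rw [mul_sub, sub_mul, Matrix.mul_smul, mul_one, Matrix.smul_mul, hk]
  have e2 : ∀ (t : Matrix n n K) (m : ℕ), (h * t * k) ^ m = h * t ^ m * k := by
    intro t m
    induction m with
    | zero => simp [hk]
    | succ m ih =>
      rw [pow_succ, ih, pow_succ]
      calc h * t ^ m * k * (h * t * k) = h * t ^ m * (k * h) * t * k := by simp only [mul_assoc]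
        _ = _ := by rw [hk']; simp only [mul_assoc, mul_one, one_mul]
  rw [pi, pi, e, e2, mul_sub, sub_mul, mul_one, hk]

end pi

end CL.KGM
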