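import Cfsg.Agent.KGV.M.Idem

/-! The pairing `th x g` and the re-indexing over the big field. -/

set_option autoImplicit false
set_option linter.unusedSectionVars false

namespace CL.KGM

open Matrix Polynomial

variable {n : Type*} [Fintype n] [DecidableEq n] {K : Type*} [Field K] [Fintype K]

theorem oa_mul {a b E : Matrix n n K} (hE : E * E = E) (hb : Commute b E) :
    1 + (a * b - 1) * E = (1 + (a - 1) * E) * (1 + (b - 1) * E) := by
  have h : E * ((b - 1) * E) = (b - 1) * E := by
    rw [← mul_assoc, ← (hb.sub_left (Commute.one_left E)).eq, mul_assoc, hE]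
  calc 1 + (a * b - 1) * E = 1 + (b - 1) * E + ((a - 1) * E + (a - 1) * ((b - 1) * E)) := by
        noncomm_ring
    _ = _ := by rw [add_mul, one_mul, mul_add, mul_one, mul_assoc _ E, h]

theorem det_unip {u E : Matrix n n K} (hE : E * E = E) (hu : Commute u E)
    (h : u ^ Fintype.card K = 1) : det (1 + (u - 1) * E) = 1 := by
  have h1 : ∀ k : ℕ, det (1 + (u ^ k - 1) * E) = det (1 + (u - 1) * E) ^ k := by
    intro k
    induction k with
    | zero => simp
    | succ k ih => rw [pow_succ, oa_mul hE hu, det_mul, ih, pow_succ]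
  have h2 := h1 (Fintype.card K)
  rw [h, FiniteField.pow_card] at h2
  rw [← h2]; simp

/-- The pairing. -/
noncomputable def th (l : K → ℕ) (x g : Matrix n n K) : K :=
  ∏ b, det (1 + (g - 1) * pi b (x ^ Fintype.card K)) ^ l b

theorem th_one (l : K → ℕ) (x : Matrix n n K) : th l x 1 = 1 := by simp [th]

theorem th_mul (l : K → ℕ) {x b : Matrix n n K} (a : Matrix n n K)
    (hx : (x ^ Fintype.card K) ^ Fintype.card K = x ^ Fintype.card K) (hb : Commute b x) :
    th l x (a * b) = th l x a * th l x b := by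
  rw [th, th, th, ← Finset.prod_mul_distrib]
  refine Finset.prod_congr rfl fun c _ => ?_
  rw [oa_mul (pi_idem hx c) (comm_pi (hb.pow_right _)), det_mul, mul_pow]

theorem th_conj (l : K → ℕ) (x g h k : Matrix n n K) (hk : h * k = 1) (hk' : k * h = 1) :
    th l (h * x * k) (h * g * k) = th l x g := by
  have e2 : ∀ (m : ℕ), (h * x * k) ^ m = h * x ^ m * k := by
    intro m
    induction m with
    | zero => simp [hk]
    | succ m ih =>
      rw [pow_succ, ih, pow_succ]
      calc h * x ^ m * k * (h * x * k) = h * x ^ m * (k * h) * x * k := by simp only [mul_assoc]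
        _ = _ := by rw [hk']; simp only [mul_assoc, mul_one, one_mul]
  refine Finset.prod_congr rfl fun c _ => ?_
  rw [e2, pi_conj c h k hk hk']
  congr 1
  have : 1 + (h * g * k - 1) * (h * pi c (x ^ Fintype.card K) * k) =
      h * (1 + (g - 1) * pi c (x ^ Fintype.card K)) * k := by
    calc _ = h * k + (h * g * (k * h) * pi c (x ^ Fintype.card K) * k
          - h * pi c (x ^ Fintype.card K) * k) := by rw [hk]; noncomm_ring
      _ = _ := by rw [hk']; noncomm_ring
  rw [this, det_mul, det_mul, mul_right_comm, ← det_mul, hk, det_one, one_mul]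

theorem th_fix (l : K → ℕ) (h1 : l 1 = 0) {g x : Matrix n n K} (hg : g ^ Fintype.card K = g)
    (hx : x * (g - 1) = g - 1) : th l g x = 1 := by
  refine Finset.prod_eq_one fun a _ => ?_
  by_cases ha : a = 1
  · rw [ha, h1, pow_zero]
  · have h2 : (g - 1) * pi a g = (a - 1) • pi a g := by
      rw [sub_mul, mul_pi hg, one_mul, sub_smul, one_smul]
    have h3 : (a - 1) • ((x - 1) * pi a g) = 0 := by
      rw [← Matrix.mul_smul, ← h2, ← mul_assoc, sub_mul, hx, one_mul, sub_self, zero_mul]
    rw [hg, (smul_eq_zero.1 h3).resolve_left (sub_ne_zero.2 ha), add_zero, det_one, one_pow]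

theorem aeval_eig {t E : Matrix n n K} {c : K} (h : t * E = c • E) (P : K[X]) :
    aeval t P * E = P.eval c • E := by
  have hp : ∀ k : ℕ, t ^ k * E = c ^ k • E := by
    intro k
    induction k with
    | zero => simp
    | succ k ih => rw [pow_succ, mul_assoc, h, Matrix.mul_smul, ih, smul_smul, pow_succ']
  induction P using Polynomial.induction_on' with
  | add P R hP hR => rw [map_add, add_mul, hP, hR, eval_add, add_smul]
  | monomial k a =>
    rw [aeval_monomial, eval_monomial, mul_assoc, hp, ← Algebra.smul_def, smul_smul]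

theorem dd_zero : dd (0 : Matrix n n K) = 0 := by simp [dd]

section joint

/-- The joint idempotents. -/
def EE (g s : Matrix n n K) (a b : K) : Matrix n n K := pi a g * pi b s

/-- The re-indexed semisimple part. -/
noncomputable def rr (ρ : K → K → K) (g s : Matrix n n K) : Matrix n n K :=
  ∑ a, ∑ b, ρ a b • EE g s a b

variable {g s : Matrix n n K} (hg : g ^ Fintype.card K = g) (hs : s ^ Fintype.card K = s)
  (hc : Commute g s)
include hg hs hc

omit hg hs in
theorem pi_comm (a b : K) : Commute (pi a g) (pi b s) := (comm_pi (comm_pi hc).symm).symm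

theorem EE_mul (a b c d : K) :
    EE g s a b * EE g s c d = (pi a g * pi c g) * (pi b s * pi d s) := by
  unfold EE
  rw [mul_assoc, ← mul_assoc (pi b s), ← (pi_comm hc c b).eq]
  simp only [mul_assoc]

theorem EE_idem (a b : K) : EE g s a b * EE g s a b = EE g s a b := by
  rw [EE_mul hg hs hc, pi_idem hg, pi_idem hs, EE]

omit hs hc in
theorem sum_EE1 (b : K) : ∑ a, EE g s a b = pi b s := by
  unfold EE; rw [← Finset.sum_mul, pi_sum hg, one_mul]

omit hg hc in
theorem sum_EE2 (a : K) : ∑ b, EE g s a b = pi a g := by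
  unfold EE; rw [← Finset.mul_sum, pi_sum hs, mul_one]

theorem det1 (b : K) : det (1 + (g - 1) * pi b s) = ∏ a, a ^ dd (EE g s a b) := by
  rw [← det_sum Finset.univ (fun a => EE g s a b) (fun a => a) (fun a => EE_idem hg hs hc a b)
    fun i j hij => by rw [EE_mul hg hs hc, pi_orth hg hij, zero_mul]]
  rw [← sum_EE1 hg b, Finset.mul_sum]
  congr 2
  refine Finset.sum_congr rfl fun a _ => ?_
  rw [sub_mul, one_mul, sub_smul, one_smul, EE, ← mul_assoc, mul_pi hg, Matrix.smul_mul]

theorem rr_EE (ρ : K → K → K) (a b : K) : rr ρ g s * EE g s a b = ρ a b • EE g s a b := by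
  classical
  rw [rr, Finset.sum_mul, Finset.sum_eq_single a, Finset.sum_mul, Finset.sum_eq_single b,
    Matrix.smul_mul, EE_idem hg hs hc]
  · intro d _ hd
    rw [Matrix.smul_mul, EE_mul hg hs hc, pi_orth hs hd, mul_zero, smul_zero]
  · simp
  · intro c _ hca
    rw [Finset.sum_mul]
    refine Finset.sum_eq_zero fun d _ => ?_
    rw [Matrix.smul_mul, EE_mul hg hs hc, pi_orth hg hca, zero_mul, smul_zero]
  · simp

theorem s_EE (a b : K) : s * EE g s a b = b • EE g s a b := by
  rw [EE, ← mul_assoc, (comm_pi hc.symm).eq, mul_assoc, mul_pi hs, Matrix.mul_smul]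

theorem det2 (ρ : K → K → K) (a : K) :
    det (1 + (rr ρ g s - 1) * pi a g) = ∏ b, ρ a b ^ dd (EE g s a b) := by
  rw [← det_sum Finset.univ (fun b => EE g s a b) (fun b => ρ a b) (fun b => EE_idem hg hs hc a b)
    fun i j hij => by rw [EE_mul hg hs hc, pi_orth hs hij, mul_zero]]
  rw [← sum_EE2 hs a, Finset.mul_sum]
  congr 2
  refine Finset.sum_congr rfl fun b _ => ?_
  rw [sub_mul, one_mul, sub_smul, one_smul, rr_EE hg hs hc]

omit hc in
theorem ext_EE {t t' : Matrix n n K} (h : ∀ a b, t * EE g s a b = t' * EE g s a b) : t = t' := by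
  have : ∀ t : Matrix n n K, t = ∑ a, ∑ b, t * EE g s a b := fun t => by
    simp only [← Finset.mul_sum, sum_EE2 hs, pi_sum hg, mul_one]
  rw [this t, this t']
  simp only [h]

omit hc in
theorem trace_eig {t : Matrix n n K} {c : K → K → K} (hc : Commute g s)
    (h : ∀ a b, t * EE g s a b = c a b • EE g s a b) :
    t.trace = ∑ a, ∑ b, (dd (EE g s a b) : K) * c a b := by
  have : t = ∑ a, ∑ b, t * EE g s a b := by
    simp only [← Finset.mul_sum, sum_EE2 hs, pi_sum hg, mul_one]
  rw [this, trace_sum]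
  refine Finset.sum_congr rfl fun a _ => ?_
  rw [trace_sum]
  refine Finset.sum_congr rfl fun b _ => ?_
  rw [h, trace_smul, trace_idem _ (EE_idem hg hs hc a b), smul_eq_mul, mul_comm]

omit hg hs hc in
theorem comm_rr (ρ : K → K → K) {t : Matrix n n K} (h1 : Commute t g) (h2 : Commute t s) :
    Commute t (rr ρ g s) :=
  Commute.sum_right _ _ _ fun _ _ => Commute.sum_right _ _ _ fun _ _ =>
    ((comm_pi h1).mul_right (comm_pi h2)).smul_right _

theorem rr_pow (ρ : K → K → K) (h0 : ∀ a b, b ≠ 0 → ρ a b ≠ 0)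
    (hs' : s ^ (Fintype.card K - 1) = 1) : rr ρ g s ^ (Fintype.card K - 1) = 1 := by
  refine ext_EE hg hs fun a b => ?_
  by_cases hb : b = 0
  · rw [hb, EE, pi_zero hs', mul_zero, mul_zero, mul_zero]
  · have := aeval_eig (rr_EE hg hs hc ρ a b) (X ^ (Fintype.card K - 1))
    rw [map_pow, aeval_X, eval_pow, eval_X, FiniteField.pow_card_sub_one_eq_one _ (h0 a b hb),
      one_smul] at this
    rw [this, one_mul]

theorem s_rr [DecidableEq K] (ρ : K → K → K) (hi : ∀ a, Function.Injective (ρ a)) :
    s = ∑ a, aeval (rr ρ g s) (Lagrange.interpolate Finset.univ (ρ a) id) * pi a g := by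
  conv_lhs => rw [← mul_one s, ← pi_sum hg, Finset.mul_sum]
  refine Finset.sum_congr rfl fun a _ => ?_
  rw [← sum_EE2 hs a, Finset.mul_sum, Finset.mul_sum]
  refine Finset.sum_congr rfl fun b _ => ?_
  rw [aeval_eig (rr_EE hg hs hc ρ a b), s_EE hg hs hc,
    Lagrange.eval_interpolate_at_node _ (hi a).injOn (Finset.mem_univ b), id]

omit hg hs hc in
theorem EE_map (φ : K →+* K) (h1 : g.map φ = g) (h2 : s.map φ = s) (a b : K) :
    (EE g s a b).map φ = EE g s (φ a) (φ b) := by
  rw [EE, Matrix.map_mul, pi_map, pi_map, h1, h2, EE]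

omit hg hs hc in
theorem rr_map (φ : K →+* K) (h1 : g.map φ = g) (h2 : s.map φ = s) (ρ : K → K → K)
    (hρ : ∀ a b, ρ (φ a) (φ b) = φ (ρ a b)) : (rr ρ g s).map φ = rr ρ g s := by
  have hb : Function.Bijective φ := Finite.injective_iff_bijective.1 φ.injective
  have e : (rr ρ g s).map φ = ∑ a, ∑ b, ρ (φ a) (φ b) • EE g s (φ a) (φ b) := by
    rw [← RingHom.mapMatrix_apply, rr, map_sum]
    refine Finset.sum_congr rfl fun a _ => ?_
    rw [map_sum]
    refine Finset.sum_congr rfl fun b _ => ?_
    rw [← EE_map φ h1 h2, hρ]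
    ext i j; simp
  rw [e, rr, ← hb.sum_comp fun a => ∑ b, ρ a b • EE g s a b]
  refine Finset.sum_congr rfl fun a _ => ?_
  rw [← hb.sum_comp fun b => ρ (φ a) b • EE g s (φ a) b]

end joint

end CL.KGM
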